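import Groth.Agent.Lib.FormalFin.Sys
import Groth.Agent.Lib.SymAlg.Exists
import Groth.Agent.Lib.SymAlg.Sections
import Groth.Agent.Lib.QAffFactor.Basic
import Groth.Agent.H78.Formal.Compl

/-!
# Algebraization of formal finite schemes with proper bottom term
-/

set_option linter.style.haveILetI false
set_option linter.unusedSectionVars false

noncomputable section

universe u

open CategoryTheory Limits AlgebraicGeometry Opposite TopologicalSpace

namespace Groth.Agent.Lib.FormalFin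

open Groth.Agent.Lib Groth.Agent.H78.Formal.Sections Groth.Agent.H78.Formal.Elem

theorem compat_of_naturality {J C : Type*} [Category J] [Category C] {F G : J ⥤ C} (α : F ⟶ G)
    {j i : J} (k : j ⟶ i) {M D₁ D₀ : C} (c₁ : M ⟶ F.obj j) (c₀ : M ⟶ F.obj i)
    (hc : c₁ ≫ F.map k = c₀) (e₁ : G.obj j ⟶ D₁) (e₀ : G.obj i ⟶ D₀) (d : D₁ ⟶ D₀)
    (he : G.map k ≫ e₀ = e₁ ≫ d) : (c₁ ≫ α.app j ≫ e₁) ≫ d = c₀ ≫ α.app i ≫ e₀ := by
  rw [Category.assoc, Category.assoc, ← he, ← α.naturality_assoc, ← Category.assoc, hc]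

section sym

variable {S : Scheme.{u}}

/-- The symmetric algebra of a finite module is of finite type. -/
theorem finiteType_symStr {E : S.Modules} [E.IsQuasicoherent] {U : S.Opens} (hU : IsAffineOpen U)
    [Module.Finite Γ(S, U) Γ(E, U)] : ((SymAlg.Exists.alg E).str.app (op U)).hom.FiniteType := by
  classical
  obtain ⟨T, hT⟩ := (inferInstance : Module.Finite Γ(S, U) Γ(E, U)).fg_top
  have hft : Algebra.FiniteType Γ(S, U) (SymAlg.Exists.Sy E U) := by
    refine ⟨⟨T.image (SymmetricAlgebra.ι Γ(S, U) Γ(E, U)), Algebra.eq_top_iff.2 fun x => ?_⟩⟩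
    induction x using SymmetricAlgebra.induction with
    | algebraMap r => exact Subalgebra.algebraMap_mem _ r
    | ι e =>
      have h : e ∈ Submodule.span Γ(S, U) (T : Set Γ(E, U)) := hT ▸ Submodule.mem_top
      induction h using Submodule.span_induction with
      | mem v hv => exact Algebra.subset_adjoin (Finset.mem_coe.2 (Finset.mem_image_of_mem _ hv))
      | zero => rw [map_zero]; exact Subalgebra.zero_mem _
      | add a b _ _ ha hb => rw [map_add]; exact Subalgebra.add_mem _ ha hb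
      | smul r a _ ha => rw [map_smul]; exact Subalgebra.smul_mem _ ha r
    | mul a b ha hb => exact Subalgebra.mul_mem _ ha hb
    | add a b ha hb => exact Subalgebra.add_mem _ ha hb
  have e : ((SymAlg.Exists.alg E).str.app (op U)).hom =
      (SymAlg.Exists.toAlg E U).comp (algebraMap _ _) :=
    RingHom.ext fun r => (SymAlg.Exists.toAlg_algebraMap E U r).symm
  rw [e]
  exact (RingHom.FiniteType.of_surjective _ (SymAlg.Exists.toAlg_bijective E hU).2).comp
    (RingHom.finiteType_algebraMap.2 hft)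

/-- A map over the base into a relative spectrum, surjective on sections over affines, is a closed
immersion. -/
theorem isClosedImmersion_of_surjective (B : RelSpec.QCAlg S) {T : Scheme.{u}} {q : T ⟶ S}
    [IsAffineHom q] (v : T ⟶ B.spec) (w : v ≫ B.π = q)
    (h : ∀ U : S.Opens, IsAffineOpen U →
      Function.Surjective (v.appLE (B.π ⁻¹ᵁ U) (q ⁻¹ᵁ U) (AffAlgBij.le_preimage v w U))) :
    IsClosedImmersion v := by
  refine (IsZariskiLocalAtTarget.iff_of_iSup_eq_top (P := @IsClosedImmersion)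
    (fun V : S.affineOpens => B.π ⁻¹ᵁ (V : S.Opens)) ?_).2 fun V => ?_
  · rw [← Scheme.Hom.preimage_iSup, iSup_affineOpens_eq_top, Scheme.Hom.preimage_top]
  haveI : IsAffine (B.π ⁻¹ᵁ (V : S.Opens) : B.spec.Opens) := V.2.preimage B.π
  have hpre : q ⁻¹ᵁ (V : S.Opens) = v ⁻¹ᵁ (B.π ⁻¹ᵁ (V : S.Opens)) := by
    rw [← Scheme.Hom.comp_preimage, w]
  haveI : IsAffine (v ⁻¹ᵁ (B.π ⁻¹ᵁ (V : S.Opens)) : T.Opens) := hpre ▸ V.2.preimage q
  rw [HasAffineProperty.iff_of_isAffine (P := @IsClosedImmersion)]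
  refine ⟨inferInstance, ?_⟩
  have hs : Function.Surjective (v.app (B.π ⁻¹ᵁ (V : S.Opens))) := fun b => by
    obtain ⟨a, ha⟩ := h V.1 V.2 (T.presheaf.map (eqToHom hpre).op b)
    refine ⟨a, (ConcreteCategory.bijective_of_isIso (T.presheaf.map (eqToHom hpre).op)).1 ?_⟩
    exact Eq.trans rfl ha
  rw [← Scheme.Hom.resLE_eq_morphismRestrict,
    show (v.resLE (B.π ⁻¹ᵁ (V : S.Opens)) (v ⁻¹ᵁ (B.π ⁻¹ᵁ (V : S.Opens))) le_rfl).appTop = _ from
      Scheme.Hom.resLE_app_top _ _, Scheme.Hom.appLE_eq_app]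
  exact (ConcreteCategory.bijective_of_isIso (v ⁻¹ᵁ (B.π ⁻¹ᵁ (V : S.Opens))).topIso.inv).2.comp
    (hs.comp (ConcreteCategory.bijective_of_isIso (B.π ⁻¹ᵁ (V : S.Opens)).topIso.hom).2)

end sym

/-- A formal module of finite algebras comes with compatible closed immersions into one affine scheme
of finite type over `X`. -/
theorem exists_embedding {A : Type u} [CommRing A] [IsNoetherianRing A] {X : Scheme.{u}}
    [X.Over (Spec (CommRingCat.of A))] (I : Ideal A) [IsAdicComplete I A]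
    [IsSeparated (X ↘ Spec (CommRingCat.of A))] [LocallyOfFiniteType (X ↘ Spec (CommRingCat.of A))]
    [QuasiCompact (X ↘ Spec (CommRingCat.of A))] [IsLocallyNoetherian X]
    {Y : ℕ → Scheme.{u}} (qq : ∀ n, Y n ⟶ X) [∀ n, IsFinite (qq n)] (t : ∀ n, Y n ⟶ Y (n + 1))
    (wt : ∀ n, t n ≫ qq (n + 1) = qq n) (G : ℕᵒᵖ ⥤ X.Modules)
    (e₀ : ∀ n, G.obj (op n) ≅ (RelSpec.QCAlg.directImage (qq n)).toModule)
    (hG : _root_.Formal.IsCohFormal I G)
    (hsupp : ClSub.IsProperOver (X ↘ Spec (CommRingCat.of A)) (CohB1.support (G.obj (op 0))))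
    (hGmap : ∀ n, G.map (homOfLE (Nat.le_succ n)).op ≫ (e₀ n).hom = (e₀ (n + 1)).hom ≫
        RelSpec.QCAlg.Hom.toModuleMap (QCAlgPush.ofHom (qq (n + 1)) (qq n) (t n) (wt n))) :
    ∃ (B : RelSpec.QCAlg X) (_ : LocallyOfFiniteType B.π) (v : ∀ n, Y n ⟶ B.spec),
      (∀ n, IsClosedImmersion (v n)) ∧ (∀ n, v n ≫ B.π = qq n) ∧ ∀ n, t n ≫ v (n + 1) = v n := by
  obtain ⟨M, hM, -, ⟨Φ⟩⟩ := H78.Proper.SupportedExistence.exists_algebraization _ hG hsupp
  haveI : M.IsQuasicoherent := hM.1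
  let u : ∀ n, M ⟶ (RelSpec.QCAlg.directImage (qq n)).toModule :=
    fun n => cπ I M n ≫ Φ.hom.app (op n) ≫ (e₀ n).hom
  have hu : ∀ n, u (n + 1) ≫ RelSpec.QCAlg.Hom.toModuleMap
      (QCAlgPush.ofHom (qq (n + 1)) (qq n) (t n) (wt n)) = u n := fun n =>
    compat_of_naturality Φ.hom (homOfLE (Nat.le_succ n)).op (cπ I M (n + 1)) (cπ I M n)
      (cπ_comp I M (Nat.le_succ n)) (e₀ (n + 1)).hom (e₀ n).hom _ (hGmap n)
  have hus : ∀ n (U : X.Opens), IsAffineOpen U → Function.Surjective ((u n).app U) := fun n U hU s => by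
    obtain ⟨c', hc'⟩ := (app_bijective (e₀ n).hom U).2 s
    obtain ⟨c, rfl⟩ := (app_bijective (Φ.hom.app (op n)) U).2 c'
    obtain ⟨m, rfl⟩ := cπ_surjective (M := M) I n hU c
    exact ⟨m, hc'⟩
  -- the ambient scheme
  let B := SymAlg.Exists.alg M
  haveI : LocallyOfFiniteType B.π := QAffFactor.locallyOfFiniteType_π B fun U hU =>
    haveI := CohBasics.Closure.finite_sections hM hU
    finiteType_symStr hU
  let ψ : ∀ n, B ⟶ RelSpec.QCAlg.directImage (qq n) := fun n => SymAlg.Exists.liftHom M (u n)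
  have hψ : ∀ n, ψ (n + 1) ≫ QCAlgPush.ofHom (qq (n + 1)) (qq n) (t n) (wt n) = ψ n :=
    fun n => (SymAlg.Exists.isSymAlg M _ (u n)).unique
      (by rw [SymAlg.Sections.toModuleMap_comp, ← Category.assoc, SymAlg.Exists.jmap_liftHom, hu])
      (SymAlg.Exists.jmap_liftHom M (u n))
  choose v hvπ hv using fun n => QCAlgPush.ofHom_surjective (f := B.π) (g := qq n) (B.gammaHom ≫ ψ n)
  have hvt : ∀ n, t n ≫ v (n + 1) = v n := fun n => by
    refine QCAlgPush.ofHom_injective (f := B.π) (g := qq n)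
      (w₁ := by rw [Category.assoc, hvπ, wt n]) (w₂ := hvπ n) ?_
    rw [← QCAlgPush.ofHom_comp (v (n + 1)) (hvπ (n + 1)) (t n) (wt n), hv, hv,
      Category.assoc, hψ]
  have hvc : ∀ n, IsClosedImmersion (v n) := fun n => by
    refine isClosedImmersion_of_surjective B (v n) (hvπ n) fun U hU s => ?_
    haveI := RelSpecBasics.Gamma.isIso_gammaAff B U hU
    obtain ⟨m, hm⟩ := hus n U hU s
    obtain ⟨r, hr⟩ := (ConcreteCategory.bijective_of_isIso (B.gammaAff U hU)).2
      ((SymAlg.Exists.jmap M).app U m)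
    refine ⟨r, ?_⟩
    have h1 := congr_app (congrArg RelSpec.QCAlg.Hom.hom (hv n)) (op U)
    rw [show (QCAlgPush.ofHom B.π (qq n) (v n) (hvπ n)).hom = AffAlg.algHom B.π (qq n) (v n) (hvπ n) from rfl,
      AffAlgBij.algHom_app] at h1
    refine (ConcreteCategory.congr_hom h1 r).trans ?_
    change (ψ n).hom.app (op U) (B.gammaMap.app (op U) r) = s
    rw [B.gammaMap_app U hU, hr]
    exact (congrArg (fun k => k.app U m) (SymAlg.Exists.jmap_liftHom M (u n))).trans hm
  exact ⟨B, inferInstance, v, hvc, hvπ, hvt⟩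

variable {A : Type u} [CommRing A] {X : Scheme.{u}} (f : X ⟶ Spec (CommRingCat.of A)) (I : Ideal A)
variable {Y : ℕ → Scheme.{u}} (y : (n : ℕ) → (Y n ⟶ CohB1.thick f I n))
  (t : (n : ℕ) → (Y n ⟶ Y (n + 1)))
variable (ht : ∀ n, IsPullback (t n) (y n) (y (n + 1)) (CohB1.thickTrans f I n))

/-- Algebraization of a formal finite scheme. -/
theorem exists_finite [IsNoetherianRing A] [IsAdicComplete I A] [IsSeparated f]
    [LocallyOfFiniteType f] [QuasiCompact f] (hy : ∀ n, IsFinite (y n))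
    (hp : IsProper (y 0 ≫ CohB1.thickToBase f I 0))
    (ht : ∀ n, IsPullback (t n) (y n) (y (n + 1)) (CohB1.thickTrans f I n)) :
    ∃ (W : Scheme.{u}) (i : W ⟶ X) (w : (n : ℕ) → (Y n ⟶ W)), IsFinite i ∧
      IsProper (i ≫ f) ∧ (∀ n, w n = t n ≫ w (n + 1)) ∧ ∀ n, IsPullback (w n) (y n) i (CohB1.thickι f I n) := by
  letI : X.Over (Spec (CommRingCat.of A)) := ⟨f⟩
  haveI : IsSeparated (X ↘ Spec (CommRingCat.of A)) := inferInstanceAs (IsSeparated f)
  haveI : LocallyOfFiniteType (X ↘ Spec (CommRingCat.of A)) := inferInstanceAs (LocallyOfFiniteType f)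
  haveI : QuasiCompact (X ↘ Spec (CommRingCat.of A)) := inferInstanceAs (QuasiCompact f)
  haveI : IsLocallyNoetherian X := LocallyOfFiniteType.isLocallyNoetherian f
  haveI hqf : ∀ n, IsFinite (q f I y n) := isFinite_q f I y hy
  haveI : ∀ n, IsClosedImmersion (CohB1.thickι f I n) := H78.Closed.Thick.closed_thickι f I
  obtain ⟨G, e₀, hG, hGs, hGmap⟩ := exists_sys f I rfl y t ht
  have hqp : IsProper (q f I y 0 ≫ f) := by
    have e : q f I y 0 ≫ f = (y 0 ≫ CohB1.thickToBase f I 0) ≫ CohB1.specQuot I 0 := by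
      rw [q, Category.assoc, Category.assoc]
      exact congrArg (y 0 ≫ ·) pullback.condition
    rw [e]
    haveI := hp
    haveI : IsClosedImmersion (CohB1.specQuot I 0) :=
      IsClosedImmersion.spec_of_surjective _ Ideal.Quotient.mk_surjective
    infer_instance
  have hsupp : ClSub.IsProperOver (X ↘ Spec (CommRingCat.of A))
      (CohB1.support (G.obj (op 0))) := by
    haveI := (hG.1 0).1
    haveI := (hG.1 0).2
    obtain ⟨hc, hprop⟩ : ClSub.IsProperOver (𝟙 _ ≫ q f I y 0 ≫ f) (Set.univ : Set (Y 0)) :=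
      (ZarCoh.ProperOver.isProper_comp_iff (𝟙 _ ≫ q f I y 0 ≫ f) (𝟙 (Y 0)) (by simp)).1
        (by simpa using hqp)
    have himg := ZarCoh.ProperOver.isProperOver_image (q f I y 0 ≫ f) f (q f I y 0) rfl
      (Z := Set.univ) ⟨hc, by simpa using hprop⟩ fun {T} i _ _ => inferInstance
    rw [Set.image_univ] at himg
    exact ZarCoh.ProperOver.isProperOver_of_subset _ himg (Modules.Support.isClosed_support _)
      hGs
  obtain ⟨B, hBft, v, hvc, hvπ, hvt⟩ := exists_embedding I (q f I y) t (t_q f I y t ht) G e₀ hG hsupp hGmap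
  haveI := hBft
  let f' := B.π ≫ f
  let z : ∀ n, Y n ⟶ CohB1.thick f' I n := fun n =>
    pullback.lift (v n) (y n ≫ CohB1.thickToBase f I n) (by
      rw [← Category.assoc, hvπ, Category.assoc, Category.assoc]
      exact congrArg (y n ≫ ·) pullback.condition)
  let p : ∀ n, CohB1.thick f' I n ⟶ CohB1.thick f I n := fun n =>
    pullback.map f' (CohB1.specQuot I n) f (CohB1.specQuot I n) B.π (𝟙 _) (𝟙 _) (by simp [f']) (by simp)
  have hzι : ∀ n, z n ≫ CohB1.thickι f' I n = v n := fun n => pullback.lift_fst _ _ _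
  have hpι : ∀ n, p n ≫ CohB1.thickι f I n = CohB1.thickι f' I n ≫ B.π := fun n => pullback.lift_fst _ _ _
  have hpb : ∀ n, p n ≫ CohB1.thickToBase f I n = CohB1.thickToBase f' I n := fun n =>
    (pullback.lift_snd _ _ _).trans (Category.comp_id _)
  have hzp : ∀ n, z n ≫ p n = y n := fun n => by
    refine pullback.hom_ext ?_ ?_
    · refine (Category.assoc _ _ _).trans ((congrArg (z n ≫ ·) (hpι n)).trans ?_)
      rw [← Category.assoc, hzι, hvπ]
      rfl
    · exact (Category.assoc _ _ _).trans ((congrArg (z n ≫ ·) (hpb n)).trans (pullback.lift_snd _ _ _))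
  have sq : ∀ n, IsPullback (CohB1.thickι f' I n) (p n) B.π (CohB1.thickι f I n) := fun n => by
    refine IsPullback.of_bot (v₂₁ := CohB1.thickToBase f I n) (v₂₂ := f) (h₃₁ := CohB1.specQuot I n)
      ?_ (hpι n).symm (IsPullback.of_hasPullback _ _)
    rw [hpb n]
    exact IsPullback.of_hasPullback f' _
  have sqt : ∀ n, IsPullback (CohB1.thickTrans f' I n) (p n) (p (n + 1)) (CohB1.thickTrans f I n) := fun n => by
    refine IsPullback.of_right (h₁₂ := CohB1.thickι f' I (n + 1)) (h₂₂ := CohB1.thickι f I (n + 1))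
      (v₁₃ := B.π) ?_ ?_ (sq (n + 1))
    · rw [H78.Closed.Thick.thickTrans_ι, H78.Closed.Thick.thickTrans_ι]
      exact sq n
    · rw [← cancel_mono (CohB1.thickι f I (n + 1)), Category.assoc, Category.assoc, hpι,
        H78.Closed.Thick.thickTrans_ι, ← Category.assoc, H78.Closed.Thick.thickTrans_ι, hpι]
  have htz : ∀ n, IsPullback (t n) (z n) (z (n + 1)) (CohB1.thickTrans f' I n) := fun n => by
    refine IsPullback.of_bot ?_ ?_ (sqt n)
    · rw [hzp, hzp]; exact ht n
    · haveI := H78.Closed.Thick.closed_thickι f' I (n + 1)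
      rw [← cancel_mono (CohB1.thickι f' I (n + 1)), Category.assoc, Category.assoc, hzι,
        H78.Closed.Thick.thickTrans_ι, hzι, hvt]
  have hzc : ∀ n, IsClosedImmersion (z n) := fun n => by
    haveI : IsClosedImmersion (z n ≫ CohB1.thickι f' I n) := by rw [hzι]; exact hvc n
    haveI := H78.Closed.Thick.closed_thickι f' I n
    exact IsClosedImmersion.of_comp_isClosedImmersion (z n) (CohB1.thickι f' I n)
  have hpz : IsProper (z 0 ≫ CohB1.thickToBase f' I 0) := by
    rw [← hpb 0, ← Category.assoc, hzp]; exact hp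
  obtain ⟨W, e, w, he, hep, hwt, hw⟩ := H78.Closed.Thick.exists_subscheme f' I z t hzc htz hpz
  haveI := he
  haveI : IsProper ((e ≫ B.π) ≫ f) := by rw [Category.assoc]; exact hep
  haveI : UniversallyClosed (e ≫ B.π) := UniversallyClosed.of_comp_of_isSeparated _ f
  refine ⟨W, e ≫ B.π, w, IsFinite.iff_isProper_and_isAffineHom.2 ⟨{}, inferInstance⟩, inferInstance,
    hwt, fun n => ?_⟩
  have := (hw n).paste_vert (sq n)
  rwa [hzp] at this

end Groth.Agent.Lib.FormalFin
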